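import Cfsg.Prelude.Def_JComponents
import Cfsg.Agent.ZN.Facts
import Cfsg.Agent.ZN.Four
import Cfsg.Agent.ZN.Plane

/-!
# J(T)-components: elementary facts

`oddGen H` is the subgroup generated by the elements of odd order of `H`. `JC J K` is the content of
`Cfsg.IsJComponent T K`, which depends on `J = J(T)` only.
-/

set_option autoImplicit false
set_option linter.style.haveILetI false

namespace Cfsg.Agent.H250.JBasic

open Subgroup Cfsg
open Cfsg.Agent.ZN
open Cfsg.Agent.PLocal.ThompsonJ

universe u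

variable {G : Type u} [Group G]

/-! ### odd order elements -/

/-- The subgroup generated by the elements of odd order of `H`. -/
def oddGen (H : Subgroup G) : Subgroup G := closure {g : G | g ∈ H ∧ Odd (orderOf g)}

theorem oddGen_le (H : Subgroup G) : oddGen H ≤ H := by
  rw [oddGen, closure_le]; exact fun x hx => hx.1

theorem mem_oddGen {H : Subgroup G} {g : G} (hg : g ∈ H) (ho : Odd (orderOf g)) : g ∈ oddGen H :=
  subset_closure ⟨hg, ho⟩

theorem oddGen_le_iff {H K : Subgroup G} :
    oddGen H ≤ K ↔ ∀ g ∈ H, Odd (orderOf g) → g ∈ K := by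
  rw [oddGen, closure_le]
  exact ⟨fun h g h1 h2 => h ⟨h1, h2⟩, fun h g hg => h g hg.1 hg.2⟩

theorem oddGen_mono {H K : Subgroup G} (h : H ≤ K) : oddGen H ≤ oddGen K :=
  closure_mono fun _ hx => ⟨h hx.1, hx.2⟩

theorem oddGen_map {G' : Type*} [Group G'] (f : G →* G') (hf : Function.Injective f)
    (H : Subgroup G) : oddGen (H.map f) = (oddGen H).map f := by
  rw [oddGen, oddGen, MonoidHom.map_closure]
  congr 1
  ext x
  constructor
  · rintro ⟨⟨y, hy, rfl⟩, h⟩
    refine ⟨y, ⟨hy, ?_⟩, rfl⟩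
    rwa [orderOf_injective f hf] at h
  · rintro ⟨y, ⟨hy, h⟩, rfl⟩
    refine ⟨⟨y, hy, rfl⟩, ?_⟩
    rwa [orderOf_injective f hf]

theorem normalizer_le_normalizer_oddGen (H : Subgroup G) :
    normalizer (H : Set G) ≤ normalizer (oddGen H : Set G) :=
  normalizer_le_of_equivariant oddGen
    (fun g B => oddGen_map _ (MulAut.conj g).injective B) H

/-- An element of odd order lies in a subgroup containing its `2^n`-th power. -/
theorem mem_of_pow_mem {K : Subgroup G} {g : G} (ho : Odd (orderOf g)) {n : ℕ}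
    (h : g ^ (2 ^ n) ∈ K) : g ∈ K := by
  have hc : Nat.Coprime (2 ^ n) (orderOf g) :=
    (Nat.Coprime.pow_right _ ho.coprime_two_right).symm
  obtain ⟨m, hm⟩ := exists_pow_eq_self_of_coprime hc
  rw [← hm]
  exact pow_mem h m

/-- If `K` is subnormal of 2-power index, then `K` contains all elements of odd order. -/
theorem mem_of_isSubnormal {K : Subgroup G} (hsn : K.IsSubnormal) :
    ∀ {n : ℕ}, K.index ∣ 2 ^ n → ∀ {g : G}, Odd (orderOf g) → g ∈ K := by
  induction hsn with
  | top => intro n _ g _; exact mem_top g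
  | step H K hle hsn hN ih =>
    intro n hn g hg
    have h1 : K.index ∣ 2 ^ n := (index_dvd_of_le hle).trans hn
    have hgK : g ∈ K := ih h1 hg
    have h2 : H.relIndex K ∣ 2 ^ n := (show H.relIndex K ∣ H.index by
      rw [← relIndex_mul_index hle]; exact dvd_mul_right _ _).trans hn
    obtain ⟨m, -, hm⟩ := (Nat.dvd_prime_pow Nat.prime_two).1 h2
    have h3 := (H.subgroupOf K).pow_index_mem ⟨g, hgK⟩
    rw [show (H.subgroupOf K).index = 2 ^ m from hm] at h3
    exact mem_of_pow_mem hg h3

/-- Relative version. -/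
theorem mem_of_isSubnormal_rel {K H : Subgroup G} (hsn : (K.subgroupOf H).IsSubnormal)
    {n : ℕ} (hn : K.relIndex H ∣ 2 ^ n) {g : G} (hg : g ∈ H) (ho : Odd (orderOf g)) : g ∈ K := by
  have h1 : Odd (orderOf (⟨g, hg⟩ : H)) := by rwa [Subgroup.orderOf_mk]
  exact mem_of_isSubnormal hsn hn h1

theorem relIndex_sup {K P : Subgroup G} (h : P ≤ normalizer (K : Set G)) :
    K.relIndex (K ⊔ P) = K.relIndex P := by
  rw [sup_comm]
  have := Subgroup.normal_subgroupOf_of_le_normalizer h
  have := Subgroup.normal_subgroupOf_sup_of_le_normalizer h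
  exact (Nat.card_congr
    (QuotientGroup.quotientInfEquivProdNormalizerQuotient P K h).toEquiv).symm

/-- If the 2-group `P` normalizes `K`, then the elements of odd order of `KP` lie in `K`. -/
theorem oddGen_sup [Finite G] {K P : Subgroup G} (h : P ≤ normalizer (K : Set G))
    (hP : IsPGroup 2 P) : oddGen (K ⊔ P) = oddGen K := by
  refine le_antisymm ?_ (oddGen_mono le_sup_left)
  rw [oddGen_le_iff]
  intro g hg ho
  refine mem_oddGen ?_ ho
  have h1 : (K.subgroupOf (K ⊔ P)).Normal := by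
    rw [normal_subgroupOf_iff_le_normalizer le_sup_left]
    exact sup_le le_normalizer h
  obtain ⟨n, hn⟩ := IsPGroup.iff_card.1 hP
  refine mem_of_isSubnormal_rel h1.isSubnormal (n := n) ?_ hg ho
  rw [relIndex_sup h, ← hn]
  exact relIndex_dvd_card _ _

/-- If the 2-group `P` is normalized by `K` and `K` is subnormal in `KP`, then the elements of odd
order of `KP` lie in `K`. -/
theorem oddGen_sup_of_isSubnormal [Finite G] {K P : Subgroup G} (h : K ≤ normalizer (P : Set G))
    (hP : IsPGroup 2 P) (hsn : (K.subgroupOf (K ⊔ P)).IsSubnormal) :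
    oddGen (K ⊔ P) = oddGen K := by
  refine le_antisymm ?_ (oddGen_mono le_sup_left)
  rw [oddGen_le_iff]
  intro g hg ho
  refine mem_oddGen ?_ ho
  obtain ⟨n, hn⟩ := IsPGroup.iff_card.1 hP
  refine mem_of_isSubnormal_rel hsn (n := n) ?_ hg ho
  -- `|KP : K| |K| = |KP| = |P| |KP : P| = |P| |K : K ∩ P|`
  have h1 : Nat.card K * K.relIndex (K ⊔ P) = Nat.card ↥(K ⊔ P) := by
    have h1 := relIndex_mul_relIndex ⊥ K (K ⊔ P) bot_le le_sup_left
    rwa [relIndex_bot_left, relIndex_bot_left] at h1
  have h2 : Nat.card P * P.relIndex (K ⊔ P) = Nat.card ↥(K ⊔ P) := by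
    have h1 := relIndex_mul_relIndex ⊥ P (K ⊔ P) bot_le le_sup_right
    rwa [relIndex_bot_left, relIndex_bot_left] at h1
  rw [sup_comm, relIndex_sup h, sup_comm, ← h1] at h2
  have h3 : P.relIndex K ∣ Nat.card K := relIndex_dvd_card _ _
  have h4 : Nat.card K * K.relIndex (K ⊔ P) ∣ Nat.card K * Nat.card P := by
    rw [← h2, mul_comm]
    exact Nat.mul_dvd_mul_right h3 _
  rw [← hn]
  exact Nat.dvd_of_mul_dvd_mul_left Nat.card_pos h4

/-! ### commutators -/

theorem le_normalizer_of_comm_eq {K J : Subgroup G} (h : ⁅K, J⁆ = K) :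
    J ≤ normalizer (K : Set G) :=
  le_normalizer_iff_commutator_le_left.2 h.le

/-- A subgroup `U` normalized by `K` and `J` and normalizing `J` normalizes `KJ`, if
`K = [K, J]`. -/
theorem le_normalizer_sup {K J U : Subgroup G} (hcomm : ⁅K, J⁆ = K)
    (hKU : K ≤ normalizer (U : Set G)) (hJU : J ≤ normalizer (U : Set G))
    (hUJ : U ≤ normalizer (J : Set G)) : U ≤ normalizer ((K ⊔ J : Subgroup G) : Set G) := by
  set X := K ⊔ J with hX
  have hXU : X ≤ normalizer (U : Set G) := sup_le hKU hJU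
  set N : Subgroup G := closure {y : G | ∃ x ∈ X, ∃ j ∈ J, y = x * j * x⁻¹} with hN
  have hJN : J ≤ N := fun j hj => subset_closure ⟨1, one_mem _, j, hj, by group⟩
  have hNX : N ≤ X := by
    rw [hN, closure_le]
    rintro _ ⟨x, hx, j, hj, rfl⟩
    exact mul_mem (mul_mem hx ((le_sup_right : J ≤ X) hj)) (inv_mem hx)
  have hKN : K ≤ N := by
    rw [← hcomm, commutator_le]
    intro k hk j hj
    rw [commutatorElement_def]
    exact mul_mem (subset_closure ⟨k, (le_sup_left : K ≤ X) hk, j, hj, rfl⟩) (inv_mem (hJN hj))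
  have hNX' : N = X := le_antisymm hNX (sup_le hKN hJN)
  rw [← hNX', le_normalizer_iff]
  intro u hu y hy
  rw [hN] at hy
  induction hy using Subgroup.closure_induction with
  | mem y hy =>
    obtain ⟨x, hx, j, hj, rfl⟩ := hy
    have hu' : x⁻¹ * u * x ∈ U := by
      have := (mem_normalizer_iff.1 (inv_mem (hXU hx)) u).1 hu
      simpa using this
    have h1 : (x⁻¹ * u * x) * j * (x⁻¹ * u * x)⁻¹ ∈ J := (mem_normalizer_iff.1 (hUJ hu') j).1 hj
    refine subset_closure ⟨x, hx, _, h1, ?_⟩
    group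
  | one => rw [mul_one, mul_inv_cancel]; exact one_mem _
  | mul a b _ _ ha hb =>
    have : u * (a * b) * u⁻¹ = (u * a * u⁻¹) * (u * b * u⁻¹) := by group
    rw [this]; exact mul_mem ha hb
  | inv a _ ha =>
    have : u * a⁻¹ * u⁻¹ = (u * a * u⁻¹)⁻¹ := by group
    rw [this]; exact inv_mem ha

/-- **S2941, abstract form.** -/
theorem le_normalizer_of_oddGen [Finite G] {K J U : Subgroup G} (hJ : IsPGroup 2 J)
    (hodd : oddGen K = K) (hcomm : ⁅K, J⁆ = K)
    (hKU : K ≤ normalizer (U : Set G)) (hJU : J ≤ normalizer (U : Set G))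
    (hUJ : U ≤ normalizer (J : Set G)) : U ≤ normalizer (K : Set G) := by
  have h1 := le_normalizer_sup hcomm hKU hJU hUJ
  have h2 : oddGen (K ⊔ J) = K := by
    rw [oddGen_sup (le_normalizer_of_comm_eq hcomm) hJ, hodd]
  calc U ≤ normalizer ((K ⊔ J : Subgroup G) : Set G) := h1
    _ ≤ normalizer (oddGen (K ⊔ J) : Set G) := normalizer_le_normalizer_oddGen _
    _ = normalizer (K : Set G) := by rw [h2]

/-! ### indices and 2-groups -/

theorem card_mul_relIndex {H L : Subgroup G} (h : H ≤ L) :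
    Nat.card H * H.relIndex L = Nat.card L := by
  have h1 := relIndex_mul_relIndex ⊥ H L bot_le h
  rwa [relIndex_bot_left, relIndex_bot_left] at h1

/-- `|KP : P| = |K : K ∩ P|` if `P` normalizes `K`. -/
theorem relIndex_sup' [Finite G] {K P : Subgroup G} (h : P ≤ normalizer (K : Set G)) :
    P.relIndex (K ⊔ P) = P.relIndex K := by
  have h1 := card_mul_relIndex (le_sup_left : K ≤ K ⊔ P)
  have h2 := card_mul_relIndex (le_sup_right : P ≤ K ⊔ P)
  rw [relIndex_sup h] at h1
  have h3 := card_mul_relIndex (inf_le_left : K ⊓ P ≤ K)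
  have h4 := card_mul_relIndex (inf_le_right : K ⊓ P ≤ P)
  rw [inf_relIndex_left] at h3
  rw [inf_relIndex_right] at h4
  have h5 : Nat.card P * P.relIndex (K ⊔ P) = Nat.card P * P.relIndex K := by
    rw [h2, ← h1, ← h3, ← h4]; ring
  exact Nat.eq_of_mul_eq_mul_left Nat.card_pos h5

/-- A 2-group acting on a nontrivial 2-group has a nontrivial fixed point. -/
theorem exists_fixed [Finite G] {W R : Subgroup G} (hW : IsPGroup 2 W) (hW1 : W ≠ ⊥)
    (hR : IsPGroup 2 R) (hRW : R ≤ normalizer (W : Set G)) :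
    ∃ w ∈ W, w ≠ 1 ∧ ∀ r ∈ R, r * w * r⁻¹ = w := by
  haveI : Fact (Nat.Prime 2) := ⟨Nat.prime_two⟩
  letI act : MulAction R W :=
    { smul := fun r w => ⟨(r : G) * w * (r : G)⁻¹, Four.conj_mem (hRW r.2) w.2⟩
      one_smul := fun w => Subtype.ext (by
        change ((1 : R) : G) * w * ((1 : R) : G)⁻¹ = w
        simp)
      mul_smul := fun r s w => Subtype.ext (by
        change ((r * s : R) : G) * w * ((r * s : R) : G)⁻¹ = r * (s * w * (s : G)⁻¹) * (r : G)⁻¹
        rw [Subgroup.coe_mul]; group) }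
  have h2 : 2 ∣ Nat.card W := by
    obtain ⟨n, hn⟩ := IsPGroup.iff_card.1 hW
    have hn0 : n ≠ 0 := by
      rintro rfl
      exact hW1 (Subgroup.card_eq_one.1 (by simpa using hn))
    rw [hn]; exact dvd_pow_self 2 hn0
  have h1 : (1 : W) ∈ MulAction.fixedPoints R W := fun r => Subtype.ext (by
    change (r : G) * ((1 : W) : G) * (r : G)⁻¹ = ((1 : W) : G)
    simp)
  obtain ⟨w, hw, hw1⟩ := hR.exists_fixed_point_of_prime_dvd_card_of_fixed_point W h2 h1
  refine ⟨w, w.2, fun h => hw1 (Subtype.ext h.symm), fun r hr => ?_⟩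
  exact congrArg Subtype.val (hw ⟨r, hr⟩)

/-! ### the content of `IsJComponent` -/

/-- The content of `IsJComponent T K`, where `J = J(T)`. -/
structure JC (J K : Subgroup G) : Prop where
  odd : oddGen K = K
  comm : ⁅K, J⁆ = K
  idx : (o2 K).relIndex K = 3
  syl : ∀ S : Subgroup G, IsSylowTwoIn S (K ⊔ J) → J ≤ S → jj S = J
  cardW : Nat.card (wOf K) = 4
  sqW : ∀ w ∈ wOf K, w ^ 2 = 1

theorem isJComponent_iff {T K : Subgroup G} : IsJComponent T K ↔ JC (jj T) K := by
  unfold IsJComponent
  constructor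
  · rintro ⟨h1, h2, h3, h4, h5, h6⟩
    exact ⟨h1, h2, h3, h4, h5, fun w hw => by rw [pow_two]; exact h6 w hw⟩
  · rintro ⟨h1, h2, h3, h4, h5, h6⟩
    exact ⟨h1, h2, h3, h4, h5, fun w hw => by rw [← pow_two]; exact h6 w hw⟩

theorem wOf_def (K : Subgroup G) : wOf K = ⁅zc (o2 K), K⁆ := rfl

theorem wOf_map {G' : Type*} [Group G'] (f : G →* G') (hf : Function.Injective f)
    (K : Subgroup G) : wOf (K.map f) = (wOf K).map f := by
  rw [wOf_def, wOf_def, o2_map f hf, zc_map f hf, map_commutator]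

theorem normalizer_le_normalizer_wOf (K : Subgroup G) :
    normalizer (K : Set G) ≤ normalizer (wOf K : Set G) :=
  normalizer_le_of_equivariant wOf (fun g B => wOf_map _ (MulAut.conj g).injective B) K

theorem isSylowTwoIn_map {G' : Type*} [Group G'] (f : G →* G') (hf : Function.Injective f)
    {S L : Subgroup G} : IsSylowTwoIn (S.map f) (L.map f) ↔ IsSylowTwoIn S L := by
  unfold IsSylowTwoIn
  rw [relIndex_map_map_of_injective _ _ hf, map_le_map_iff_of_injective hf]
  refine and_congr_right fun _ => and_congr_left fun _ => ?_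
  constructor
  · intro h
    have e := S.equivMapOfInjective f hf
    exact h.of_equiv e.symm
  · exact fun h => h.map f

theorem JC.map {G' : Type u} [Group G'] {J K : Subgroup G} (h : JC J K) (f : G ≃* G') :
    JC (J.map f.toMonoidHom) (K.map f.toMonoidHom) where
  odd := by rw [oddGen_map _ f.injective, h.odd]
  comm := by rw [← map_commutator, h.comm]
  idx := by rw [o2_map _ f.injective, relIndex_map_map_of_injective _ _ f.injective, h.idx]
  syl := by
    intro S hS hJS
    set S' := S.comap f.toMonoidHom with hS'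
    have hSS' : S'.map f.toMonoidHom = S := map_comap_eq_self_of_surjective f.surjective S
    rw [← hSS'] at hS hJS ⊢
    rw [← Subgroup.map_sup, isSylowTwoIn_map _ f.injective] at hS
    rw [map_le_map_iff_of_injective f.injective] at hJS
    rw [jj_map _ f.injective, h.syl S' hS hJS]
  cardW := by rw [wOf_map _ f.injective, card_map_injective _ f.injective, h.cardW]
  sqW := by
    rw [wOf_map _ f.injective]
    rintro _ ⟨w, hw, rfl⟩
    rw [← map_pow, h.sqW w hw, map_one]

end Cfsg.Agent.H250.JBasic
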