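import Cfsg.Agent.H250.JBasic

/-!
# J(T)-components: first consequences of the definition
-/

set_option autoImplicit false
set_option linter.style.haveILetI false

namespace Cfsg.Agent.H250.JBasic

open Subgroup Cfsg
open Cfsg.Agent.ZN
open Cfsg.Agent.PLocal.ThompsonJ

universe u

variable {G : Type u} [Group G]

theorem normalizer_le_normalizer_centralizer (H : Subgroup G) :
    normalizer (H : Set G) ≤ normalizer (centralizer (H : Set G) : Set G) := by
  rw [le_normalizer_iff]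
  intro g hg c hc
  rw [mem_centralizer_iff] at hc ⊢
  intro x hx
  have h1 : g⁻¹ * x * g ∈ H := Four.conj_mem' hg hx
  have h2 := hc _ h1
  calc x * (g * c * g⁻¹) = g * ((g⁻¹ * x * g) * c) * g⁻¹ := by group
    _ = g * (c * (g⁻¹ * x * g)) * g⁻¹ := by rw [h2]
    _ = g * c * g⁻¹ * x := by group

/-! ### groups `K` with `|K : O₂(K)| = 3` -/

/-- `|K : O₂(K)| = 3` implies `K = O₂(K)⟨d⟩` for `d ∈ K` outside `O₂(K)`. -/
theorem sup_zpowers [Finite G] {K Q : Subgroup G} (hQK : Q ≤ K) (h3 : Q.relIndex K = 3) {d : G}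
    (hd : d ∈ K) (hdQ : d ∉ Q) : Q ⊔ zpowers d = K := by
  have hle : Q ⊔ zpowers d ≤ K := sup_le hQK (zpowers_le.2 hd)
  have h1 := relIndex_mul_relIndex Q (Q ⊔ zpowers d) K le_sup_left hle
  rw [h3] at h1
  have h2 : Q.relIndex (Q ⊔ zpowers d) ≠ 1 := by
    intro h
    rw [relIndex_eq_one] at h
    exact hdQ (h ((le_sup_right : zpowers d ≤ _) (mem_zpowers d)))
  have h4 : Q.relIndex (Q ⊔ zpowers d) = 3 :=
    ((Nat.dvd_prime Nat.prime_three).1 ⟨_, h1.symm⟩).resolve_left h2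
  rw [h4] at h1
  have h5 : (Q ⊔ zpowers d).relIndex K = 1 := by omega
  rw [relIndex_eq_one] at h5
  exact le_antisymm hle h5

theorem pow_three_mem [Finite G] {K Q : Subgroup G} (hn : K ≤ normalizer (Q : Set G))
    (hQK : Q ≤ K) (h3 : Q.relIndex K = 3) {d : G} (hd : d ∈ K) : d ^ 3 ∈ Q := by
  haveI : (Q.subgroupOf K).Normal := (normal_subgroupOf_iff_le_normalizer hQK).2 hn
  have h1 := (Q.subgroupOf K).pow_index_mem ⟨d, hd⟩
  rw [show (Q.subgroupOf K).index = 3 from h3] at h1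
  exact h1

variable {J K : Subgroup G}

theorem JC.le_normalizer (h : JC J K) : J ≤ normalizer (K : Set G) :=
  le_normalizer_of_comm_eq h.comm

theorem JC.exists_d (h : JC J K) : ∃ d ∈ K, Odd (orderOf d) ∧ d ∉ o2 K := by
  by_contra hcon
  push Not at hcon
  have h1 : oddGen K ≤ o2 K := oddGen_le_iff.2 hcon
  rw [h.odd] at h1
  have h2 := h.idx
  rw [relIndex_eq_one.2 h1] at h2
  omega

theorem JC.pow_three [Finite G] (h : JC J K) {d : G} (hd : d ∈ K) : d ^ 3 ∈ o2 K :=
  pow_three_mem (le_normalizer_o2 K) (o2_le K) h.idx hd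

theorem JC.sup_zpowers [Finite G] (h : JC J K) {d : G} (hd : d ∈ K) (hd2 : d ∉ o2 K) :
    o2 K ⊔ zpowers d = K :=
  JBasic.sup_zpowers (o2_le K) h.idx hd hd2

/-- A 2-subgroup of `K` lies in `O₂(K)`. -/
theorem JC.two_le [Finite G] (h : JC J K) {P : Subgroup G} (hPK : P ≤ K) (hP : IsPGroup 2 P) :
    P ≤ o2 K := by
  intro x hx
  by_contra hx2
  have h1 := h.pow_three (hPK hx)
  obtain ⟨n, hn⟩ := hP ⟨x, hx⟩
  have hn' : x ^ (2 ^ n) = 1 := congrArg Subtype.val hn
  have hc : Nat.Coprime 3 (2 ^ n) := Nat.Coprime.pow_right _ (by norm_num)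
  apply hx2
  have h2 : x ^ (2 ^ n) ∈ o2 K := by rw [hn']; exact one_mem _
  have h3 : Int.gcd 3 (2 ^ n) = 1 := by
    have := hc
    rw [Int.gcd_eq_natAbs]
    simpa [Int.natAbs_pow] using this
  have h4 := Int.gcd_eq_gcd_ab 3 (2 ^ n)
  rw [h3] at h4
  have h5 : x = (x ^ 3) ^ (Int.gcdA 3 (2 ^ n)) * (x ^ (2 ^ n)) ^ (Int.gcdB 3 (2 ^ n)) := by
    calc x = x ^ ((1 : ℕ) : ℤ) := by simp
      _ = x ^ (3 * Int.gcdA 3 (2 ^ n) + 2 ^ n * Int.gcdB 3 (2 ^ n)) := by rw [h4]
      _ = _ := by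
        rw [zpow_add, zpow_mul, zpow_mul]
        norm_cast
  rw [h5]
  exact mul_mem (zpow_mem h1 _) (zpow_mem h2 _)

/-! ### the four-group `W_K` -/

theorem wOf_le_zc (K : Subgroup G) : wOf K ≤ zc (o2 K) := by
  rw [wOf_def, ← le_normalizer_iff_commutator_le_left]
  exact (le_normalizer_o2 K).trans (normalizer_le_normalizer_zc _)

theorem wOf_le_o2 (K : Subgroup G) : wOf K ≤ o2 K := (wOf_le_zc K).trans (zc_le _)

theorem wOf_le (K : Subgroup G) : wOf K ≤ K := (wOf_le_o2 K).trans (o2_le K)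

theorem o2_le_centralizer_wOf (K : Subgroup G) : o2 K ≤ centralizer (wOf K : Set G) :=
  (le_centralizer_zc _).trans (centralizer_le (wOf_le_zc K))

theorem le_normalizer_wOf (K : Subgroup G) : K ≤ normalizer (wOf K : Set G) :=
  Subgroup.le_normalizer.trans (normalizer_le_normalizer_wOf K)

theorem JC.le_normalizer_wOf (h : JC J K) : J ≤ normalizer (wOf K : Set G) :=
  h.le_normalizer.trans (normalizer_le_normalizer_wOf K)

theorem JC.isPGroup_wOf (h : JC J K) : IsPGroup 2 (wOf K) :=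
  IsPGroup.of_card (n := 2) (by rw [h.cardW]; norm_num)

theorem JC.wOf_ne_bot (h : JC J K) : wOf K ≠ ⊥ := by
  intro hb
  have h1 := h.cardW
  rw [hb, Subgroup.card_bot] at h1
  omega

/-- An element of `K` centralizing `W_K` lies in `O₂(K)`. -/
theorem JC.mem_o2_of_cent [Finite G] (h : JC J K) {d : G} (hd : d ∈ K)
    (hc : d ∈ centralizer (wOf K : Set G)) : d ∈ o2 K := by
  by_contra hd2
  have h1 := h.sup_zpowers hd hd2
  -- `d` centralizes `zc (o2 K)`
  have h2 : d ∈ centralizer (zc (o2 K) : Set G) := by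
    rw [mem_centralizer_iff]
    intro z hz
    have hdz : d ∈ normalizer (zc (o2 K) : Set G) :=
      ((le_normalizer_o2 K).trans (normalizer_le_normalizer_zc _)) hd
    set c := z * d * z⁻¹ * d⁻¹ with hcdef
    have hcW : c ∈ wOf K := by
      rw [wOf_def]
      exact commutator_mem_commutator hz hd
    have hcz : c ∈ zc (o2 K) := wOf_le_zc K hcW
    have hcd : c * d = d * c := mem_centralizer_iff.1 hc c hcW
    have hzc : z * c = c * z := (zc_comm hcz (zc_le _ hz))
    have hc2 : c ^ 2 = 1 := zc_sq hcz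
    -- `z d z⁻¹ = c d`
    have h3 : z * d * z⁻¹ = c * d := by rw [hcdef]; group
    have h4 : z * d ^ 3 * z⁻¹ = c ^ 3 * d ^ 3 := by
      calc z * d ^ 3 * z⁻¹ = (z * d * z⁻¹) ^ 3 := by
            simp only [pow_succ, pow_zero, one_mul]; group
        _ = (c * d) ^ 3 := by rw [h3]
        _ = c ^ 3 * d ^ 3 := (show Commute c d from hcd).mul_pow 3
    have h5 : z * d ^ 3 * z⁻¹ = d ^ 3 := by
      have h6 := mem_centralizer_iff.1 (le_centralizer_zc _ (h.pow_three hd)) z hz
      rw [h6]; group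
    rw [h5] at h4
    have h7 : c ^ 3 = 1 := by
      have := mul_right_cancel (b := d ^ 3) (a := 1) (c := c ^ 3) (by rw [one_mul]; exact h4)
      exact this.symm
    have h8 : c = 1 := by
      calc c = c ^ 3 * (c ^ 2)⁻¹ := by group
        _ = 1 := by rw [h7, hc2]; group
    rw [h8, one_mul] at h3
    calc z * d = (z * d * z⁻¹) * z := by group
      _ = d * z := by rw [h3]
  have h3 : K ≤ centralizer (zc (o2 K) : Set G) :=
    h1.ge.trans (sup_le (le_centralizer_zc _) (zpowers_le.2 h2))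
  apply h.wOf_ne_bot
  rw [wOf_def, commutator_eq_bot_iff_le_centralizer, le_centralizer_iff]
  exact h3

/-- An element of `K` outside `O₂(K)` fixes no nontrivial element of `W_K`. -/
theorem JC.conj_ne [Finite G] (h : JC J K) {d w : G} (hd : d ∈ K) (hd2 : d ∉ o2 K)
    (hw : w ∈ wOf K) (hw1 : w ≠ 1) : d * w * d⁻¹ ≠ w :=
  Four.cyc_ne h.cardW h.sqW (JBasic.le_normalizer_wOf K hd) (fun hc => hd2 (h.mem_o2_of_cent hd hc))
    (o2_le_centralizer_wOf K (h.pow_three hd)) hw hw1

/-- A `K`-invariant subgroup containing a nontrivial element of `W_K` contains `W_K`. -/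
theorem JC.wOf_le_of_mem [Finite G] (h : JC J K) {U : Subgroup G}
    (hU : K ≤ normalizer (U : Set G)) {w : G} (hw : w ∈ wOf K) (hw1 : w ≠ 1) (hwU : w ∈ U) :
    wOf K ≤ U := by
  intro x hx
  by_cases hx1 : x = 1
  · rw [hx1]; exact one_mem _
  obtain ⟨d, hd, -, hd2⟩ := h.exists_d
  have hc := Four.cyc_trans h.cardW h.sqW (JBasic.le_normalizer_wOf K hd)
    (fun hc => hd2 (h.mem_o2_of_cent hd hc)) (o2_le_centralizer_wOf K (h.pow_three hd)) hw hw1
    hx hx1
  rcases hc with rfl | rfl | rfl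
  · exact hwU
  · exact Four.conj_mem (hU hd) hwU
  · exact Four.conj_mem' (hU hd) hwU

/-- A 2-subgroup normalized by `K` and normalizing `W_K` centralizes `W_K`. -/
theorem JC.two_le_centralizer [Finite G] (h : JC J K) {R : Subgroup G} (hR : IsPGroup 2 R)
    (hKR : K ≤ normalizer (R : Set G)) (hRW : R ≤ normalizer (wOf K : Set G)) :
    R ≤ centralizer (wOf K : Set G) := by
  obtain ⟨w, hw, hw1, hfix⟩ := exists_fixed h.isPGroup_wOf h.wOf_ne_bot hR hRW
  have h1 : K ≤ normalizer (centralizer (R : Set G) : Set G) :=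
    hKR.trans (normalizer_le_normalizer_centralizer R)
  have h2 : wOf K ≤ centralizer (R : Set G) := by
    refine h.wOf_le_of_mem h1 hw hw1 ?_
    rw [mem_centralizer_iff]
    intro r hr
    exact Four.conj_eq_iff_comm.1 (hfix r hr)
  exact le_centralizer_iff.1 h2

end Cfsg.Agent.H250.JBasic
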