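import Cfsg.Agent.H250.JComp
import Cfsg.Agent.PLocal.SubnormalCore
import Cfsg.Agent.PLocal.FFBridge
import Cfsg.Agent.S0615

/-!
# The part of the definition of a J(T)-component which depends on `K` only; subnormal `K`
-/

set_option autoImplicit false
set_option linter.style.haveILetI false
set_option linter.unusedSectionVars false

namespace Cfsg.Agent.H250.JBasic

open Subgroup Cfsg
open Cfsg.Agent.ZN
open Cfsg.Agent.PLocal.ThompsonJ
open scoped commutatorElement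

universe u

variable {G : Type u} [Group G]

/-- The conditions on `K` alone in the definition of a J(T)-component. -/
structure KC (K : Subgroup G) : Prop where
  odd : oddGen K = K
  idx : (o2 K).relIndex K = 3
  cardW : Nat.card (wOf K) = 4
  sqW : ∀ w ∈ wOf K, w ^ 2 = 1

theorem JC.kc {J K : Subgroup G} (h : JC J K) : KC K := ⟨h.odd, h.idx, h.cardW, h.sqW⟩

variable {K : Subgroup G}

theorem KC.exists_d (h : KC K) : ∃ d ∈ K, Odd (orderOf d) ∧ d ∉ o2 K := by
  by_contra hcon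
  push Not at hcon
  have h1 : oddGen K ≤ o2 K := oddGen_le_iff.2 hcon
  rw [h.odd] at h1
  have h2 := h.idx
  rw [relIndex_eq_one.2 h1] at h2
  omega

theorem KC.pow_three [Finite G] (h : KC K) {d : G} (hd : d ∈ K) : d ^ 3 ∈ o2 K :=
  pow_three_mem (le_normalizer_o2 K) (o2_le K) h.idx hd

theorem KC.sup_zpowers [Finite G] (h : KC K) {d : G} (hd : d ∈ K) (hd2 : d ∉ o2 K) :
    o2 K ⊔ zpowers d = K :=
  JBasic.sup_zpowers (o2_le K) h.idx hd hd2

/-- A 2-subgroup of `K` lies in `O₂(K)`. -/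
theorem KC.two_le [Finite G] (h : KC K) {P : Subgroup G} (hPK : P ≤ K) (hP : IsPGroup 2 P) :
    P ≤ o2 K := by
  intro x hx
  by_contra hx2
  have h1 := h.pow_three (hPK hx)
  obtain ⟨n, hn⟩ := hP ⟨x, hx⟩
  have hn' : x ^ (2 ^ n) = 1 := congrArg Subtype.val hn
  have hc : Nat.Coprime 3 (2 ^ n) := Nat.Coprime.pow_right _ (by norm_num)
  apply hx2
  have h2 : x ^ (2 ^ n) ∈ o2 K := by rw [hn']; exact one_mem _
  have h3 : Int.gcd 3 (2 ^ n) = 1 := by
    have := hc
    rw [Int.gcd_eq_natAbs]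
    simpa [Int.natAbs_pow] using this
  have h4 := Int.gcd_eq_gcd_ab 3 (2 ^ n)
  rw [h3] at h4
  have h5 : x = (x ^ 3) ^ (Int.gcdA 3 (2 ^ n)) * (x ^ (2 ^ n)) ^ (Int.gcdB 3 (2 ^ n)) := by
    calc x = x ^ ((1 : ℕ) : ℤ) := by simp
      _ = x ^ (3 * Int.gcdA 3 (2 ^ n) + 2 ^ n * Int.gcdB 3 (2 ^ n)) := by rw [h4]
      _ = _ := by
        rw [zpow_add, zpow_mul, zpow_mul]
        norm_cast
  rw [h5]
  exact mul_mem (zpow_mem h1 _) (zpow_mem h2 _)

/-! ### the four-group `W_K` -/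

theorem KC.isPGroup_wOf (h : KC K) : IsPGroup 2 (wOf K) :=
  IsPGroup.of_card (n := 2) (by rw [h.cardW]; norm_num)

theorem KC.wOf_ne_bot (h : KC K) : wOf K ≠ ⊥ := by
  intro hb
  have h1 := h.cardW
  rw [hb, Subgroup.card_bot] at h1
  omega

/-- An element of `K` centralizing `W_K` lies in `O₂(K)`. -/
theorem KC.mem_o2_of_cent [Finite G] (h : KC K) {d : G} (hd : d ∈ K)
    (hc : d ∈ centralizer (wOf K : Set G)) : d ∈ o2 K := by
  by_contra hd2
  have h1 := h.sup_zpowers hd hd2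
  -- `d` centralizes `zc (o2 K)`
  have h2 : d ∈ centralizer (zc (o2 K) : Set G) := by
    rw [mem_centralizer_iff]
    intro z hz
    have hdz : d ∈ normalizer (zc (o2 K) : Set G) :=
      ((le_normalizer_o2 K).trans (normalizer_le_normalizer_zc _)) hd
    set c := z * d * z⁻¹ * d⁻¹ with hcdef
    have hcW : c ∈ wOf K := by
      rw [wOf_def]
      exact commutator_mem_commutator hz hd
    have hcz : c ∈ zc (o2 K) := wOf_le_zc K hcW
    have hcd : c * d = d * c := mem_centralizer_iff.1 hc c hcW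
    have hzc : z * c = c * z := (zc_comm hcz (zc_le _ hz))
    have hc2 : c ^ 2 = 1 := zc_sq hcz
    -- `z d z⁻¹ = c d`
    have h3 : z * d * z⁻¹ = c * d := by rw [hcdef]; group
    have h4 : z * d ^ 3 * z⁻¹ = c ^ 3 * d ^ 3 := by
      calc z * d ^ 3 * z⁻¹ = (z * d * z⁻¹) ^ 3 := by
            simp only [pow_succ, pow_zero, one_mul]; group
        _ = (c * d) ^ 3 := by rw [h3]
        _ = c ^ 3 * d ^ 3 := (show Commute c d from hcd).mul_pow 3
    have h5 : z * d ^ 3 * z⁻¹ = d ^ 3 := by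
      have h6 := mem_centralizer_iff.1 (le_centralizer_zc _ (h.pow_three hd)) z hz
      rw [h6]; group
    rw [h5] at h4
    have h7 : c ^ 3 = 1 := by
      have := mul_right_cancel (b := d ^ 3) (a := 1) (c := c ^ 3) (by rw [one_mul]; exact h4)
      exact this.symm
    have h8 : c = 1 := by
      calc c = c ^ 3 * (c ^ 2)⁻¹ := by group
        _ = 1 := by rw [h7, hc2]; group
    rw [h8, one_mul] at h3
    calc z * d = (z * d * z⁻¹) * z := by group
      _ = d * z := by rw [h3]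
  have h3 : K ≤ centralizer (zc (o2 K) : Set G) :=
    h1.ge.trans (sup_le (le_centralizer_zc _) (zpowers_le.2 h2))
  apply h.wOf_ne_bot
  rw [wOf_def, commutator_eq_bot_iff_le_centralizer, le_centralizer_iff]
  exact h3

/-- An element of `K` outside `O₂(K)` fixes no nontrivial element of `W_K`. -/
theorem KC.conj_ne [Finite G] (h : KC K) {d w : G} (hd : d ∈ K) (hd2 : d ∉ o2 K)
    (hw : w ∈ wOf K) (hw1 : w ≠ 1) : d * w * d⁻¹ ≠ w :=
  Four.cyc_ne h.cardW h.sqW (JBasic.le_normalizer_wOf K hd) (fun hc => hd2 (h.mem_o2_of_cent hd hc))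
    (o2_le_centralizer_wOf K (h.pow_three hd)) hw hw1

/-- A `K`-invariant subgroup containing a nontrivial element of `W_K` contains `W_K`. -/
theorem KC.wOf_le_of_mem [Finite G] (h : KC K) {U : Subgroup G}
    (hU : K ≤ normalizer (U : Set G)) {w : G} (hw : w ∈ wOf K) (hw1 : w ≠ 1) (hwU : w ∈ U) :
    wOf K ≤ U := by
  intro x hx
  by_cases hx1 : x = 1
  · rw [hx1]; exact one_mem _
  obtain ⟨d, hd, -, hd2⟩ := h.exists_d
  have hc := Four.cyc_trans h.cardW h.sqW (JBasic.le_normalizer_wOf K hd)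
    (fun hc => hd2 (h.mem_o2_of_cent hd hc)) (o2_le_centralizer_wOf K (h.pow_three hd)) hw hw1
    hx hx1
  rcases hc with rfl | rfl | rfl
  · exact hwU
  · exact Four.conj_mem (hU hd) hwU
  · exact Four.conj_mem' (hU hd) hwU

/-- A 2-subgroup normalized by `K` and normalizing `W_K` centralizes `W_K`. -/
theorem KC.two_le_centralizer [Finite G] (h : KC K) {R : Subgroup G} (hR : IsPGroup 2 R)
    (hKR : K ≤ normalizer (R : Set G)) (hRW : R ≤ normalizer (wOf K : Set G)) :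
    R ≤ centralizer (wOf K : Set G) := by
  obtain ⟨w, hw, hw1, hfix⟩ := exists_fixed h.isPGroup_wOf h.wOf_ne_bot hR hRW
  have h1 : K ≤ normalizer (centralizer (R : Set G) : Set G) :=
    hKR.trans (normalizer_le_normalizer_centralizer R)
  have h2 : wOf K ≤ centralizer (R : Set G) := by
    refine h.wOf_le_of_mem h1 hw hw1 ?_
    rw [mem_centralizer_iff]
    intro r hr
    exact Four.conj_eq_iff_comm.1 (hfix r hr)
  exact le_centralizer_iff.1 h2

theorem KC.map {G' : Type u} [Group G'] (h : KC K) (f : G →* G')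
    (hf : Function.Injective f) : KC (K.map f) where
  odd := by rw [oddGen_map _ hf, h.odd]
  idx := by rw [o2_map _ hf, relIndex_map_map_of_injective _ _ hf, h.idx]
  cardW := by rw [wOf_map _ hf, card_map_injective _ hf, h.cardW]
  sqW := by
    rw [wOf_map _ hf]
    rintro _ ⟨w, hw, rfl⟩
    rw [← map_pow, h.sqW w hw, map_one]

theorem KC.of_map {G' : Type u} [Group G'] (f : G →* G')
    (hf : Function.Injective f) (h : KC (K.map f)) : KC K where
  odd := by
    have h1 := h.odd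
    rw [oddGen_map f hf] at h1
    exact map_injective hf h1
  idx := by
    have h1 := h.idx
    rwa [o2_map f hf, relIndex_map_map_of_injective _ _ hf] at h1
  cardW := by
    have h1 := h.cardW
    rwa [wOf_map f hf, card_map_injective _ hf] at h1
  sqW := by
    intro w hw
    have h1 := h.sqW (f w) (by rw [wOf_map f hf]; exact ⟨w, hw, rfl⟩)
    apply hf
    rw [map_pow, h1, map_one]

/-! ### subnormal `K` -/

section Subnormal

variable {X : Type u} [Group X] [Finite X] {K : Subgroup X}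

/-- `O₂(X)` normalizes `K`. -/
theorem KC.pCore_le_normalizer (h : KC K) (hsn : K.IsSubnormal) :
    pCore 2 X ≤ normalizer (K : Set X) := by
  haveI : (pCore 2 X).Normal := Lib.Cores.pCore_normal 2
  have h1 : (⊤ : Subgroup X) ≤ normalizer (pCore 2 X : Set X) :=
    (normalizer_eq_top_iff.2 inferInstance).ge
  have h2 := oddGen_sup_of_isSubnormal (le_top.trans h1) (Lib.Cores.pCore_isPGroup (G := X) 2)
    (hsn.subgroupOf (K := K ⊔ pCore 2 X))
  rw [h.odd] at h2
  calc pCore 2 X ≤ K ⊔ pCore 2 X := le_sup_right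
    _ ≤ normalizer ((K ⊔ pCore 2 X : Subgroup X) : Set X) := Subgroup.le_normalizer
    _ ≤ normalizer (oddGen (K ⊔ pCore 2 X) : Set X) := normalizer_le_normalizer_oddGen _
    _ = normalizer (K : Set X) := by rw [h2]

theorem o2_le_pCore (hsn : K.IsSubnormal) : o2 K ≤ pCore 2 X :=
  PLocal.SubnormalCore.map_subtype_pCore_le hsn

theorem KC.pCore_le_centralizer (h : KC K) (hsn : K.IsSubnormal) :
    pCore 2 X ≤ centralizer (wOf K : Set X) := by
  haveI : (pCore 2 X).Normal := Lib.Cores.pCore_normal 2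
  have h1 : (⊤ : Subgroup X) ≤ normalizer (pCore 2 X : Set X) :=
    (normalizer_eq_top_iff.2 inferInstance).ge
  exact h.two_le_centralizer (Lib.Cores.pCore_isPGroup (G := X) 2) (le_top.trans h1)
    ((h.pCore_le_normalizer hsn).trans (normalizer_le_normalizer_wOf K))

theorem KC.wOf_le_zc_pCore (h : KC K) (hsn : K.IsSubnormal) : wOf K ≤ zc (pCore 2 X) := by
  intro w hw
  refine mem_zc.2 ⟨o2_le_pCore hsn (wOf_le_o2 K hw), fun b hb => ?_, h.sqW w hw⟩
  exact (mem_centralizer_iff.1 (h.pCore_le_centralizer hsn hb) w hw).symm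

/-- `[Ω₁(Z(O₂(X))), K] ≤ W_K`. -/
theorem KC.comm_zc (h : KC K) (hsn : K.IsSubnormal) {v k : X} (hv : v ∈ zc (pCore 2 X))
    (hk : k ∈ K) : k * v * k⁻¹ * v⁻¹ ∈ wOf K := by
  set Q := pCore 2 X with hQ
  haveI hQn : Q.Normal := Lib.Cores.pCore_normal 2
  have hVn : ∀ x : X, x ∈ normalizer (zc Q : Set X) := fun x =>
    (normalizer_le_normalizer_zc Q) ((normalizer_eq_top_iff.2 hQn).ge (mem_top x))
  have hoQ : o2 K ≤ Q := o2_le_pCore hsn
  -- commutators lie in `zc (o2 K)`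
  have hcz : ∀ y ∈ zc Q, k * y * k⁻¹ * y⁻¹ ∈ zc (o2 K) := by
    intro y hy
    have h1 : k * y * k⁻¹ * y⁻¹ ∈ zc Q := mul_mem (Four.conj_mem (hVn k) hy) (inv_mem hy)
    have h2 : k * y * k⁻¹ * y⁻¹ ∈ K := by
      have h3 : y * k⁻¹ * y⁻¹ ∈ K :=
        Four.conj_mem (h.pCore_le_normalizer hsn (zc_le _ hy)) (inv_mem hk)
      have h4 : k * y * k⁻¹ * y⁻¹ = k * (y * k⁻¹ * y⁻¹) := by group
      rw [h4]; exact mul_mem hk h3
    have h3 : zc Q ⊓ K ≤ o2 K := h.two_le inf_le_right ((isPGroup_zc Q).to_le inf_le_left)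
    exact mem_zc.2 ⟨h3 ⟨h1, h2⟩, fun b hb => zc_comm h1 (hoQ hb), zc_sq h1⟩
  by_cases hk2 : k ∈ o2 K
  · have h1 : k * v * k⁻¹ * v⁻¹ = 1 := by rw [zc_comm hv (hoQ hk2)]; group
    rw [h1]; exact one_mem _
  set c := k * v * k⁻¹ * v⁻¹ with hc
  have hcZ : c ∈ zc (o2 K) := hcz v hv
  have hZn : k ∈ normalizer (zc (o2 K) : Set X) :=
    (normalizer_le_normalizer_zc _) (le_normalizer_o2 K hk)
  -- `e = [k, c] ∈ W`
  set e := k * c * k⁻¹ * c⁻¹ with he
  have heW : e ∈ wOf K := by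
    have h1 : c * k * c⁻¹ * k⁻¹ ∈ wOf K := by
      rw [wOf_def]; exact commutator_mem_commutator hcZ hk
    have h2 : e = (c * k * c⁻¹ * k⁻¹)⁻¹ := by rw [he]; group
    rw [h2]; exact inv_mem h1
  have hkeW : k * e * k⁻¹ ∈ wOf K := Four.conj_mem (JBasic.le_normalizer_wOf K hk) heW
  have hkc : k * c * k⁻¹ = e * c := by rw [he]; group
  have hkv : k * v * k⁻¹ = c * v := by rw [hc]; group
  have hk3 : k ^ 3 * v * (k ^ 3)⁻¹ = v := by
    rw [zc_comm hv (hoQ (h.pow_three hk))]; group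
  have hec : e * c = c * e := zc_comm hcZ (wOf_le_o2 K heW)
  have hkec : (k * e * k⁻¹) * c = c * (k * e * k⁻¹) := zc_comm hcZ (wOf_le_o2 K hkeW)
  have h1 : k ^ 3 * v * (k ^ 3)⁻¹ = (k * e * k⁻¹) * (e * c) * (e * c) * c * v := by
    calc k ^ 3 * v * (k ^ 3)⁻¹ = k * (k * (k * v * k⁻¹) * k⁻¹) * k⁻¹ := by
          simp only [pow_succ, pow_zero, one_mul]; group
      _ = k * (k * (c * v) * k⁻¹) * k⁻¹ := by rw [hkv]
      _ = k * ((k * c * k⁻¹) * (k * v * k⁻¹)) * k⁻¹ := by group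
      _ = k * (e * c * (c * v)) * k⁻¹ := by rw [hkc, hkv]
      _ = (k * e * k⁻¹) * (k * c * k⁻¹) * (k * c * k⁻¹) * (k * v * k⁻¹) := by group
      _ = (k * e * k⁻¹) * (e * c) * (e * c) * (c * v) := by rw [hkc, hkv]
      _ = (k * e * k⁻¹) * (e * c) * (e * c) * c * v := by group
  have hee : e * e = 1 := by rw [← pow_two]; exact h.sqW e heW
  have hcc : c * c = 1 := by rw [← pow_two]; exact zc_sq hcZ
  have h2 : (e * c) * (e * c) * c = c := by
    calc (e * c) * (e * c) * c = e * (c * e) * (c * c) := by group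
      _ = e * (e * c) * (c * c) := by rw [hec]
      _ = (e * e) * c * (c * c) := by group
      _ = c := by rw [hee, hcc, one_mul, mul_one]
  have h3 : (k * e * k⁻¹) * c = 1 := by
    have h4 : (k * e * k⁻¹) * c * v = v := by
      calc (k * e * k⁻¹) * c * v = (k * e * k⁻¹) * ((e * c) * (e * c) * c) * v := by rw [h2]
        _ = (k * e * k⁻¹) * (e * c) * (e * c) * c * v := by group
        _ = v := by rw [← h1, hk3]
    exact mul_eq_right.1 h4
  have h4 : c = (k * e * k⁻¹)⁻¹ := (inv_eq_of_mul_eq_one_right h3).symm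
  rw [h4]
  exact inv_mem hkeW

/-- Distinct conjugates `K₁`, `K₂` (with `W_{K₁} ≠ W_{K₂}`): `K₁` centralizes `W_{K₂}`. -/
theorem KC.centralizes {K₂ : Subgroup X} (h : KC K) (hsn : K.IsSubnormal) (h₂ : KC K₂)
    (hsn₂ : K₂.IsSubnormal) (hne : wOf K ≠ wOf K₂) : K ≤ centralizer (wOf K₂ : Set X) := by
  haveI : Fact (Nat.Prime 2) := ⟨Nat.prime_two⟩
  set Q := pCore 2 X with hQ
  haveI hQn : Q.Normal := Lib.Cores.pCore_normal 2
  set V := zc Q with hV
  have hVn : V.Normal := by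
    rw [← normalizer_eq_top_iff, eq_top_iff]
    exact (normalizer_eq_top_iff.2 hQn).ge.trans (normalizer_le_normalizer_zc Q)
  obtain ⟨Γ, hΓ, hfin, f, j, hcomp, hker, hdisj⟩ := PLocal.FFBridge.exists_data V hVn
  -- facts valid for both subgroups
  have key : ∀ K' : Subgroup X, KC K' → K'.IsSubnormal →
      ⁅j.range, K'.map f⁆ = ((wOf K').subgroupOf V).map j ∧
      (∀ U : Subgroup Γ, U ≤ ⁅j.range, K'.map f⁆ → K'.map f ≤ normalizer (U : Set Γ) →
        U = ⊥ ∨ U = ⁅j.range, K'.map f⁆) ∧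
      2 < Nat.card ↥(K'.map f) ∧ IsPGroup 3 ↥(K'.map f) := by
    intro K' h' hsn'
    have hWV : wOf K' ≤ V := h'.wOf_le_zc_pCore hsn'
    obtain ⟨d, hd, hdo, hd2⟩ := h'.exists_d
    have hd3 : d ^ 3 = 1 := by
      obtain ⟨n, hn⟩ := isPGroup_o2 K' ⟨_, h'.pow_three hd⟩
      have hn' : (d ^ 3) ^ (2 ^ n) = 1 := congrArg Subtype.val hn
      have h1 : Odd (orderOf (d ^ 3)) := hdo.of_dvd_nat (orderOf_pow_dvd 3)
      have h2 : orderOf (d ^ 3) ∣ 2 ^ n := orderOf_dvd_of_pow_eq_one hn'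
      have h3 : Nat.Coprime (orderOf (d ^ 3)) (2 ^ n) :=
        Nat.Coprime.pow_right _ h1.coprime_two_right
      exact orderOf_eq_one_iff.1 (Nat.eq_one_of_dvd_coprimes h3 dvd_rfl h2)
    -- the group `f(K')` is generated by `f d`
    have hfd : K'.map f = zpowers (f d) := by
      have h1 : (o2 K').map f = ⊥ := by
        rw [eq_bot_iff]
        rintro _ ⟨x, hx, rfl⟩
        rw [mem_bot, hker]
        exact (le_centralizer_zc Q) (o2_le_pCore hsn' hx)
      rw [← h'.sup_zpowers hd hd2, Subgroup.map_sup, h1, bot_sup_eq, MonoidHom.map_zpowers]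
    have hfd1 : f d ≠ 1 := by
      intro h1
      rw [hker] at h1
      exact hd2 (h'.mem_o2_of_cent hd (centralizer_le hWV h1))
    have hfd3 : orderOf (f d) = 3 := by
      haveI : Fact (Nat.Prime 3) := ⟨Nat.prime_three⟩
      exact orderOf_eq_prime (by rw [← map_pow, hd3, map_one]) hfd1
    have hcomm : ∀ x ∈ K', ∀ v : V, ∃ w : V, (w : X) ∈ wOf K' ∧ ⁅j v, f x⁆ = j w := by
      intro x hx v
      have h1 : x * (v : X) * x⁻¹ * (v : X)⁻¹ ∈ wOf K' := h'.comm_zc hsn' v.2 hx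
      have h1' : (v : X) * (x * (v : X) * x⁻¹)⁻¹ ∈ wOf K' := by
        have : (v : X) * (x * (v : X) * x⁻¹)⁻¹ = (x * (v : X) * x⁻¹ * (v : X)⁻¹)⁻¹ := by group
        rw [this]; exact inv_mem h1
      refine ⟨⟨_, hWV h1'⟩, h1', ?_⟩
      have h2 : x * (v : X) * x⁻¹ ∈ V := hVn.conj_mem _ v.2 x
      have h3 := hcomp.act x v ⟨_, h2⟩ rfl
      have h4 : (⟨_, hWV h1'⟩ : V) = v * (⟨_, h2⟩ : V)⁻¹ := Subtype.ext rfl
      rw [h4, map_mul, map_inv, ← h3, commutatorElement_def]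
      group
    have hle : ⁅j.range, K'.map f⁆ ≤ ((wOf K').subgroupOf V).map j := by
      rw [commutator_le]
      rintro _ ⟨v, rfl⟩ _ ⟨x, hx, rfl⟩
      obtain ⟨w, hw, hwe⟩ := hcomm x hx v
      rw [hwe]
      exact ⟨w, hw, rfl⟩
    -- invariant subgroups
    have hinv : ∀ U : Subgroup Γ, K'.map f ≤ normalizer (U : Set Γ) → ∀ w : V,
        (w : X) ∈ wOf K' → w ≠ 1 → j w ∈ U → ((wOf K').subgroupOf V).map j ≤ U := by
      intro U hU w hw hw1 hwU
      let U₀ : Subgroup X := (U.comap j).map V.subtype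
      have hU₀ : K' ≤ normalizer (U₀ : Set X) := by
        rw [le_normalizer_iff]
        rintro x hx _ ⟨v, hv, rfl⟩
        have h2 : x * (v : X) * x⁻¹ ∈ V := hVn.conj_mem _ v.2 x
        refine ⟨⟨_, h2⟩, ?_, rfl⟩
        change j ⟨_, h2⟩ ∈ U
        rw [← hcomp.act x v ⟨_, h2⟩ rfl]
        exact Four.conj_mem (hU ⟨x, hx, rfl⟩) hv
      have h1 : wOf K' ≤ U₀ :=
        h'.wOf_le_of_mem hU₀ hw (fun h1 => hw1 (Subtype.ext h1)) ⟨w, hwU, rfl⟩
      rintro _ ⟨v, hv, rfl⟩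
      obtain ⟨v', hv', hvv'⟩ := h1 hv
      have h2 : v' = v := Subtype.ext hvv'
      rw [← h2]; exact hv'
    have hge : ((wOf K').subgroupOf V).map j ≤ ⁅j.range, K'.map f⁆ := by
      obtain ⟨w, hw, hw1, -⟩ := Four.exists_other h'.cardW (1 : X)
      -- the commutator of `w` and `d` is a nontrivial element
      obtain ⟨c, hc, hce⟩ := hcomm d hd ⟨w, hWV hw⟩
      have hc1 : c ≠ 1 := by
        rintro rfl
        rw [map_one, commutatorElement_eq_one_iff_commute] at hce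
        have h1 := (hcomp.commute_iff d ⟨w, hWV hw⟩).1 hce.symm
        exact h'.conj_ne hd hd2 hw hw1 (Four.conj_eq_iff_comm.2 h1)
      refine hinv _ ?_ c hc hc1 ?_
      · exact normalizer_commutator_ge_right _ _
      · rw [← hce]
        exact commutator_mem_commutator ⟨_, rfl⟩ ⟨d, hd, rfl⟩
    have heq := le_antisymm hle hge
    refine ⟨heq, ?_, ?_, ?_⟩
    · intro U hU1 hU2
      by_cases hU : U = ⊥
      · exact Or.inl hU
      right
      apply le_antisymm hU1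
      obtain ⟨⟨u, hu⟩, hu1⟩ := (Subgroup.ne_bot_iff_exists_ne_one).1 hU
      have hu1' : u ≠ 1 := fun h1 => hu1 (Subtype.ext h1)
      obtain ⟨w, hw, rfl⟩ := hle (hU1 hu)
      exact hle.trans (hinv U hU2 w hw (fun h1 => hu1' (by rw [h1, map_one])) hu)
    · rw [hfd, Nat.card_zpowers, hfd3]; norm_num
    · rw [hfd]
      exact IsPGroup.of_card (n := 1) (by rw [Nat.card_zpowers, hfd3, pow_one])
  obtain ⟨a1, a2, a3, a4⟩ := key K h hsn
  obtain ⟨b1, b2, b3, b4⟩ := key K₂ h₂ hsn₂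
  have hWV : wOf K ≤ V := h.wOf_le_zc_pCore hsn
  have hWV₂ : wOf K₂ ≤ V := h₂.wOf_le_zc_pCore hsn₂
  set E₁ := K.map f with hE₁
  set E₂ := K₂.map f with hE₂
  set E := E₁ ⊔ E₂ with hE
  have hEr : E ≤ f.range := sup_le (map_le_range _ _) (map_le_range _ _)
  have hrn : f.range ≤ normalizer (j.range : Set Γ) := by
    rw [le_normalizer_iff]
    rintro _ ⟨x, rfl⟩ _ ⟨v, rfl⟩
    have h2 : x * (v : X) * x⁻¹ ∈ V := hVn.conj_mem _ v.2 x
    exact ⟨⟨_, h2⟩, (hcomp.act x v ⟨_, h2⟩ rfl).symm⟩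
  have hf : E ⊓ centralizer (j.range : Set Γ) = ⊥ := by
    rw [eq_bot_iff]
    rintro x ⟨hx1, hx2⟩
    obtain ⟨y, rfl⟩ := hEr hx1
    rw [mem_bot, hker, mem_centralizer_iff]
    intro v hv
    have h1 := mem_centralizer_iff.1 hx2 (j ⟨v, hv⟩) ⟨_, rfl⟩
    exact ((hcomp.commute_iff y ⟨v, hv⟩).1 h1.symm).symm
  have hsub : ∀ K' : Subgroup X, K'.IsSubnormal → K'.map f ≤ E →
      ((K'.map f).subgroupOf E).IsSubnormal := by
    intro K' hsn' hle
    have h1 : (K'.map f.rangeRestrict).IsSubnormal := hsn'.map f.rangeRestrict_surjective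
    have h2 := h1.comap (Subgroup.inclusion hEr)
    have h3 : (K'.map f.rangeRestrict).comap (Subgroup.inclusion hEr) =
        (K'.map f).subgroupOf E := by
      ext x
      constructor
      · rintro ⟨y, hy, hyx⟩
        exact ⟨y, hy, congrArg Subtype.val hyx⟩
      · rintro ⟨y, hy, hyx⟩
        exact ⟨y, hy, Subtype.ext hyx⟩
    rwa [h3] at h2
  have hs₁ := hsub K hsn le_sup_left
  have hs₂ := hsub K₂ hsn₂ le_sup_right
  have hE3 : IsPGroup 3 E := by
    have h1 : E₁.subgroupOf E ≤ pCore 3 E := PLocal.SubnormalCore.le_pCore_of_isSubnormal hs₁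
      (a4.comap_of_injective E.subtype E.subtype_injective)
    have h2 : E₂.subgroupOf E ≤ pCore 3 E := PLocal.SubnormalCore.le_pCore_of_isSubnormal hs₂
      (b4.comap_of_injective E.subtype E.subtype_injective)
    have h3 : (⊤ : Subgroup E) ≤ pCore 3 E := by
      have h4 : E ≤ (pCore 3 E).map E.subtype := by
        refine sup_le ?_ ?_
        · intro x hx
          exact ⟨⟨x, (le_sup_left : E₁ ≤ E) hx⟩, h1 hx, rfl⟩
        · intro x hx
          exact ⟨⟨x, (le_sup_right : E₂ ≤ E) hx⟩, h2 hx, rfl⟩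
      intro x _
      obtain ⟨y, hy, hyx⟩ := h4 x.2
      have : y = x := Subtype.ext hyx
      rw [← this]; exact hy
    have h4 : IsPGroup 3 (⊤ : Subgroup E) := (Lib.Cores.pCore_isPGroup (G := E) 3).to_le h3
    intro x
    obtain ⟨n, hn⟩ := h4 ⟨x, mem_top x⟩
    exact ⟨n, congrArg Subtype.val hn⟩
  have hOp : pCore 2 E = ⊥ := by
    haveI : Fact (Nat.Prime 3) := ⟨Nat.prime_three⟩
    have h1 : IsPGroup 2 (pCore 2 E) := Lib.Cores.pCore_isPGroup (G := E) 2
    have h2 : IsPGroup 3 (pCore 2 E) := hE3.to_subgroup _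
    have h3 := IsPGroup.disjoint_of_ne 2 3 (by norm_num) _ _ h1 h2
    exact disjoint_self.1 h3
  have hjinj : ∀ K' K'' : Subgroup X, wOf K' ≤ V → wOf K'' ≤ V → KC K' → KC K'' →
      wOf K' ≠ wOf K'' → ¬ ((wOf K').subgroupOf V).map j ≤ ((wOf K'').subgroupOf V).map j := by
    intro K' K'' hV' hV'' h' h'' hne' hle
    rw [map_le_map_iff_of_injective hcomp.inj] at hle
    apply hne'
    refine Subgroup.eq_of_le_of_card_ge ?_ (by rw [h'.cardW, h''.cardW])
    intro x hx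
    exact hle (show (⟨x, hV' hx⟩ : V) ∈ (wOf K').subgroupOf V from hx)
  obtain ⟨c1, -, c3, -⟩ := S0615.result (p := 2) j.range E E₁ E₂
    (by
      have : j.range = (⊤ : Subgroup V).map j := MonoidHom.range_eq_map j
      rw [this]
      refine isElementaryAbelian_map ?_ j
      rw [isElementaryAbelian_iff]
      refine ⟨fun a _ b _ => Subtype.ext ?_, fun a _ => Subtype.ext ?_⟩
      · exact isElementaryAbelian_comm (isElementaryAbelian_zc Q) a.2 b.2
      · exact zc_sq a.2)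
    (hEr.trans hrn) hf rfl hs₁ hs₂ hOp a2 b2
    (by rw [a1, b1]; exact hjinj K K₂ hWV hWV₂ h h₂ hne)
    (by rw [a1, b1]; exact hjinj K₂ K hWV₂ hWV h₂ h hne.symm) a3 b3
  -- conclusion
  intro k hk
  rw [mem_centralizer_iff]
  intro w hw
  have hfk : f k ∈ E₁ := ⟨k, hk, rfl⟩
  have hjw : j ⟨w, hWV₂ hw⟩ ∈ ⁅j.range, E₂⁆ := by
    rw [b1]; exact ⟨_, hw, rfl⟩
  -- `f k` normalizes `⁅j.range, E₂⁆`
  have hn : f k ∈ normalizer ((⁅j.range, E₂⁆ : Subgroup Γ) : Set Γ) := by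
    apply mem_normalizer_of_map_conj_eq
    rw [map_commutator]
    have h1 : j.range.map (MulAut.conj (f k)).toMonoidHom = j.range :=
      map_conj_eq_of_mem_normalizer (hrn ⟨k, rfl⟩)
    have h2 : E₂.map (MulAut.conj (f k)).toMonoidHom = E₂ := by
      apply map_conj_eq_of_mem_normalizer
      rw [commutator_eq_bot_iff_le_centralizer] at c1
      exact (centralizer_le_normalizer _) (c1 hfk)
    rw [h1, h2]
  have h1 : f k * j ⟨w, hWV₂ hw⟩ * (f k)⁻¹ * (j ⟨w, hWV₂ hw⟩)⁻¹ ∈ ⁅j.range, E₂⁆ :=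
    mul_mem (Four.conj_mem hn hjw) (inv_mem hjw)
  have h2 : f k * j ⟨w, hWV₂ hw⟩ * (f k)⁻¹ * (j ⟨w, hWV₂ hw⟩)⁻¹ ∈ ⁅j.range, E₁⁆ := by
    rw [commutator_comm]
    exact commutator_mem_commutator hfk ⟨_, rfl⟩
  have h3 : f k * j ⟨w, hWV₂ hw⟩ * (f k)⁻¹ * (j ⟨w, hWV₂ hw⟩)⁻¹ ∈
      ⁅j.range, E₁⁆ ⊓ ⁅j.range, E₂⁆ := ⟨h2, h1⟩
  rw [c3, mem_bot] at h3
  have h4 : Commute (f k) (j ⟨w, hWV₂ hw⟩) := by
    have h5 := mul_inv_eq_one.1 h3
    exact Four.conj_eq_iff_comm.1 h5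
  exact ((hcomp.commute_iff k ⟨w, hWV₂ hw⟩).1 h4).symm

end Subnormal

end Cfsg.Agent.H250.JBasic
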