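import Cfsg.Agent.H250.JSplit

/-!
# A largest elementary abelian subgroup does not permute four-groups nontrivially

`A` is a largest elementary abelian subgroup of the 2-group `S`, `W` a four-group contained in the
elementary abelian normal subgroup `V ≤ S`, and `K` a set of elements acting on `W` without fixed points
and centralizing all `A`-conjugates of `W` different from `W`. Then `A` normalizes `W`.
-/

set_option autoImplicit false
set_option linter.style.haveILetI false
set_option linter.unusedSectionVars false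

namespace Cfsg.Agent.H250.JBasic

open Subgroup Cfsg
open Cfsg.Agent.ZN
open Cfsg.Agent.PLocal.ThompsonJ

universe u

variable {G : Type u} [Group G] [Finite G]

/-- The hypotheses of the orbit lemma. -/
structure Orb (S A V W K : Subgroup G) : Prop where
  max : IsMaxIn S A
  VS : V ≤ S
  elem : IsElementaryAbelian 2 V
  AV : A ≤ normalizer (V : Set G)
  WV : W ≤ V
  card : Nat.card W = 4
  fpf : ∀ w ∈ W, (∀ k ∈ K, k * w * k⁻¹ = w) → w = 1
  cent : ∀ a ∈ A, a ∉ normalizer (W : Set G) →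
    K ≤ centralizer (W.map (MulAut.conj a).toMonoidHom : Set G)

namespace Orb

variable {S A V W K : Subgroup G}

theorem comm (h : Orb S A V W K) {a b : G} (ha : a ∈ A) (hb : b ∈ A) : a * b = b * a :=
  isElementaryAbelian_comm h.max.2.1 ha hb

theorem sq (h : Orb S A V W K) {w : G} (hw : w ∈ W) : w ^ 2 = 1 :=
  (isElementaryAbelian_iff.1 h.elem).2 w (h.WV hw)

theorem commV (h : Orb S A V W K) {v w : G} (hv : v ∈ V) (hw : w ∈ V) : v * w = w * v :=
  isElementaryAbelian_comm h.elem hv hw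

/-- index set of the orbit -/
abbrev Idx (A W : Subgroup G) : Type u := ↥A ⧸ ((normalizer (W : Set G)).subgroupOf A)

/-- the conjugates of `W` -/
noncomputable def fam (A W : Subgroup G) (q : Idx A W) : Subgroup G :=
  W.map (MulAut.conj ((q.out : ↥A) : G)).toMonoidHom

theorem fam_le (h : Orb S A V W K) (q : Idx A W) : fam A W q ≤ V := by
  rintro _ ⟨w, hw, rfl⟩
  exact Four.conj_mem (h.AV q.out.2) (h.WV hw)

theorem mem_fam {q : Idx A W} {x : G} :
    x ∈ fam A W q ↔ ((q.out : ↥A) : G)⁻¹ * x * ((q.out : ↥A) : G) ∈ W := by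
  constructor
  · rintro ⟨w, hw, rfl⟩
    have : ((q.out : ↥A) : G)⁻¹ * ((MulAut.conj ((q.out : ↥A) : G)).toMonoidHom w) *
        ((q.out : ↥A) : G) = w := by
      change ((q.out : ↥A) : G)⁻¹ * (((q.out : ↥A) : G) * w * ((q.out : ↥A) : G)⁻¹) *
        ((q.out : ↥A) : G) = w
      group
    rw [this]; exact hw
  · intro hx
    refine ⟨_, hx, ?_⟩
    change ((q.out : ↥A) : G) * (((q.out : ↥A) : G)⁻¹ * x * ((q.out : ↥A) : G)) *
      ((q.out : ↥A) : G)⁻¹ = x
    group

/-- for `q ≠ q'`, the conjugate of `K` by the representative of `q` centralizes `fam q'`. -/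
theorem cent_fam (h : Orb S A V W K) {q q' : Idx A W} (hq : q ≠ q') {k x : G} (hk : k ∈ K)
    (hx : x ∈ fam A W q') :
    (((q.out : ↥A) : G) * k * ((q.out : ↥A) : G)⁻¹) * x =
      x * (((q.out : ↥A) : G) * k * ((q.out : ↥A) : G)⁻¹) := by
  set a : G := ((q.out : ↥A) : G) with ha
  set b : G := ((q'.out : ↥A) : G) with hb
  have hab : a⁻¹ * b ∉ normalizer (W : Set G) := by
    intro hn
    apply hq
    rw [← Quotient.out_eq' q, ← Quotient.out_eq' q']
    exact QuotientGroup.eq.2 hn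
  have h1 := h.cent (a⁻¹ * b) (mul_mem (inv_mem q.out.2) q'.out.2) hab hk
  rw [mem_centralizer_iff] at h1
  obtain ⟨w, hw, rfl⟩ := hx
  have h2 := h1 ((a⁻¹ * b) * w * (a⁻¹ * b)⁻¹) ⟨w, hw, rfl⟩
  change (a * k * a⁻¹) * (b * w * b⁻¹) = (b * w * b⁻¹) * (a * k * a⁻¹)
  calc (a * k * a⁻¹) * (b * w * b⁻¹) = a * (k * ((a⁻¹ * b) * w * (a⁻¹ * b)⁻¹)) * a⁻¹ := by group
    _ = a * (((a⁻¹ * b) * w * (a⁻¹ * b)⁻¹) * k) * a⁻¹ := by rw [h2]
    _ = (b * w * b⁻¹) * (a * k * a⁻¹) := by group

/-- an element of `fam q` centralized by the conjugate of `K` is trivial. -/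
theorem fpf_fam (h : Orb S A V W K) {q : Idx A W} {x : G} (hx : x ∈ fam A W q)
    (hc : ∀ k ∈ K, (((q.out : ↥A) : G) * k * ((q.out : ↥A) : G)⁻¹) * x =
      x * (((q.out : ↥A) : G) * k * ((q.out : ↥A) : G)⁻¹)) : x = 1 := by
  set a : G := ((q.out : ↥A) : G) with ha
  have h1 : a⁻¹ * x * a ∈ W := mem_fam.1 hx
  have h2 : a⁻¹ * x * a = 1 := by
    refine h.fpf _ h1 fun k hk => ?_
    have h3 := hc k hk
    calc k * (a⁻¹ * x * a) * k⁻¹ = a⁻¹ * ((a * k * a⁻¹) * x) * (a * k * a⁻¹)⁻¹ * a := by group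
      _ = a⁻¹ * (x * (a * k * a⁻¹)) * (a * k * a⁻¹)⁻¹ * a := by rw [h3]
      _ = a⁻¹ * x * a := by group
  calc x = a * (a⁻¹ * x * a) * a⁻¹ := by group
    _ = 1 := by rw [h2]; group

/-- joins over finite sets not containing `q` are centralized by the conjugate of `K`. -/
theorem cent_sup (h : Orb S A V W K) {q : Idx A W} {s : Finset (Idx A W)} (hq : q ∉ s) {k x : G}
    (hk : k ∈ K) (hx : x ∈ ⨆ r ∈ s, fam A W r) :
    (((q.out : ↥A) : G) * k * ((q.out : ↥A) : G)⁻¹) * x =
      x * (((q.out : ↥A) : G) * k * ((q.out : ↥A) : G)⁻¹) := by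
  have h1 : (⨆ r ∈ s, fam A W r) ≤
      centralizer ({((q.out : ↥A) : G) * k * ((q.out : ↥A) : G)⁻¹} : Set G) := by
    refine iSup₂_le fun r hr y hy => ?_
    rw [mem_centralizer_singleton_iff]
    have hne : q ≠ r := by
      rintro rfl
      exact hq hr
    exact (h.cent_fam hne hk hy).symm
  exact (mem_centralizer_singleton_iff.1 (h1 hx)).symm

theorem sup_le_V (h : Orb S A V W K) (s : Finset (Idx A W)) : (⨆ r ∈ s, fam A W r) ≤ V :=
  iSup₂_le fun r _ => h.fam_le r

theorem inf_sup (h : Orb S A V W K) {q : Idx A W} {s : Finset (Idx A W)} (hq : q ∉ s) :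
    fam A W q ⊓ (⨆ r ∈ s, fam A W r) = ⊥ := by
  rw [eq_bot_iff]
  rintro x ⟨hx1, hx2⟩
  rw [mem_bot]
  exact h.fpf_fam hx1 fun k hk => h.cent_sup hq hk hx2

theorem card_fam (h : Orb S A V W K) (q : Idx A W) : Nat.card (fam A W q) = 4 := by
  rw [fam, card_map_injective _ (MulAut.conj _).injective, h.card]

/-- `|⨆ r ∈ s, W_r| ≥ 4 ^ |s|`. -/
theorem le_card (h : Orb S A V W K) (s : Finset (Idx A W)) :
    4 ^ s.card ≤ Nat.card ↥(⨆ r ∈ s, fam A W r) := by
  classical
  induction s using Finset.induction_on with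
  | empty => simp
  | insert q s hq ih =>
    rw [Finset.card_insert_of_notMem hq, Finset.iSup_insert]
    have hn : fam A W q ≤ normalizer ((⨆ r ∈ s, fam A W r : Subgroup G) : Set G) := by
      refine le_trans ?_ (centralizer_le_normalizer _)
      intro x hx
      rw [mem_centralizer_iff]
      intro y hy
      exact h.commV (h.sup_le_V s hy) (h.fam_le q hx)
    have h1 := card_sup_mul_card_inf hn
    rw [h.inf_sup hq, Subgroup.card_bot, mul_one, h.card_fam q] at h1
    rw [h1, pow_succ, mul_comm]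
    exact Nat.mul_le_mul_left 4 ih

/-- An element of the join centralized by all conjugates of `K` is trivial. -/
theorem eq_one (h : Orb S A V W K) (s : Finset (Idx A W)) {x : G}
    (hx : x ∈ ⨆ r ∈ s, fam A W r)
    (hc : ∀ q : Idx A W, ∀ k ∈ K, (((q.out : ↥A) : G) * k * ((q.out : ↥A) : G)⁻¹) * x =
      x * (((q.out : ↥A) : G) * k * ((q.out : ↥A) : G)⁻¹)) : x = 1 := by
  classical
  induction s using Finset.induction_on with
  | empty => simpa using hx
  | insert q s hq ih =>
    apply ih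
    rw [Finset.iSup_insert] at hx
    obtain ⟨w, hw, y, hy, rfl⟩ : ∃ w ∈ fam A W q, ∃ y ∈ (⨆ r ∈ s, fam A W r), w * y = x := by
      have hn : fam A W q ≤ normalizer ((⨆ r ∈ s, fam A W r : Subgroup G) : Set G) := by
        refine le_trans ?_ (centralizer_le_normalizer _)
        intro x hx
        rw [mem_centralizer_iff]
        intro y hy
        exact h.commV (h.sup_le_V s hy) (h.fam_le q hx)
      rw [← SetLike.mem_coe, coe_mul_of_left_le_normalizer_right _ _ hn] at hx
      exact hx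
    have hw1 : w = 1 := by
      refine h.fpf_fam hw fun k hk => ?_
      have h1 := hc q k hk
      have h2 := h.cent_sup hq hk hy
      set c := ((q.out : ↥A) : G) * k * ((q.out : ↥A) : G)⁻¹ with hcdef
      have h3 : c * w * y = w * c * y := by
        calc c * w * y = c * (w * y) := by group
          _ = w * y * c := h1
          _ = w * (y * c) := by group
          _ = w * (c * y) := by rw [h2]
          _ = w * c * y := by group
      exact mul_right_cancel h3
    rw [hw1, one_mul]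
    exact hy

/-- The elements of `A` normalizing `W` normalize every `fam q`. -/
theorem conj_fam (h : Orb S A V W K) {n : G} (hn : n ∈ A) (hnW : n ∈ normalizer (W : Set G))
    (q : Idx A W) {x : G} (hx : x ∈ fam A W q) : n * x * n⁻¹ ∈ fam A W q := by
  rw [mem_fam] at hx ⊢
  set a : G := ((q.out : ↥A) : G) with ha
  have hna : n * a = a * n := h.comm hn q.out.2
  have h1 : a⁻¹ * (n * x * n⁻¹) * a = n * (a⁻¹ * x * a) * n⁻¹ := by
    have h2 : a⁻¹ * n = n * a⁻¹ := by
      calc a⁻¹ * n = a⁻¹ * (n * a) * a⁻¹ := by group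
        _ = a⁻¹ * (a * n) * a⁻¹ := by rw [hna]
        _ = n * a⁻¹ := by group
    have h3 : n⁻¹ * a = a * n⁻¹ := by
      calc n⁻¹ * a = n⁻¹ * (a * n) * n⁻¹ := by group
        _ = n⁻¹ * (n * a) * n⁻¹ := by rw [hna]
        _ = a * n⁻¹ := by group
    calc a⁻¹ * (n * x * n⁻¹) * a = (a⁻¹ * n) * x * (n⁻¹ * a) := by group
      _ = (n * a⁻¹) * x * (a * n⁻¹) := by rw [h2, h3]
      _ = n * (a⁻¹ * x * a) * n⁻¹ := by group
  rw [h1]
  exact Four.conj_mem hnW hx

/-- the class of `1` -/
def q0 (A W : Subgroup G) : Idx A W := ((1 : ↥A) : Idx A W)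

theorem fam_q0 : fam A W (q0 A W) = W := by
  have h1 : (((q0 A W).out : ↥A) : G) ∈ normalizer (W : Set G) := by
    have h2 : (((q0 A W).out : ↥A) : Idx A W) = ((1 : ↥A) : Idx A W) := Quotient.out_eq' _
    have h3 := QuotientGroup.eq.1 h2.symm
    have h4 : (1 : ↥A)⁻¹ * (q0 A W).out = (q0 A W).out := by group
    rw [h4] at h3
    exact h3
  exact map_conj_eq_of_mem_normalizer h1

/-- **The orbit lemma.** -/
theorem le_normalizer (h : Orb S A V W K) (hS : IsPGroup 2 S) : A ≤ normalizer (W : Set G) := by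
  classical
  have : Fintype (Idx A W) := Fintype.ofFinite _
  set N := A ⊓ normalizer (W : Set G) with hN
  set U : Subgroup G := ⨆ r ∈ (Finset.univ : Finset (Idx A W)), fam A W r with hU
  set U' : Subgroup G := ⨆ r ∈ (Finset.univ.erase (q0 A W) : Finset (Idx A W)), fam A W r with hU'
  have hUV : U ≤ V := h.sup_le_V _
  have hU'V : U' ≤ V := h.sup_le_V _
  have hWU : W ⊔ U' = U := by
    rw [hU, ← Finset.insert_erase (Finset.mem_univ (q0 A W)), Finset.iSup_insert, fam_q0]
  have hWU' : W ⊓ U' = ⊥ := by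
    have h1 := h.inf_sup (q := q0 A W) (s := Finset.univ.erase (q0 A W)) (by simp)
    rwa [fam_q0] at h1
  have hA2 : IsPGroup 2 A := hS.to_le h.max.1
  set m := (normalizer (W : Set G)).relIndex A with hm
  have hmcard : (Finset.univ : Finset (Idx A W)).card = m := by
    rw [Finset.card_univ, ← Nat.card_eq_fintype_card]
    rfl
  -- lower bound
  have hlow : 4 ^ m ≤ Nat.card U := by rw [← hmcard]; exact h.le_card _
  -- `C = C_A(W)` centralizes `U`
  set C := A ⊓ centralizer (W : Set G) with hC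
  have hCU : C ≤ centralizer (U : Set G) := by
    rw [le_centralizer_iff]
    refine iSup₂_le fun q _ x hx => ?_
    rw [mem_centralizer_iff]
    intro c hc
    obtain ⟨hc1, hc2⟩ := mem_inf.1 hc
    rw [mem_fam] at hx
    set a : G := ((q.out : ↥A) : G) with ha
    have h1 := mem_centralizer_iff.1 hc2 _ hx
    have h2 : c * a = a * c := h.comm hc1 q.out.2
    have h3 : c * (a * (a⁻¹ * x * a) * a⁻¹) * c⁻¹ = a * (a⁻¹ * x * a) * a⁻¹ := by
      calc c * (a * (a⁻¹ * x * a) * a⁻¹) * c⁻¹ = (c * a) * (a⁻¹ * x * a) * (c * a)⁻¹ := by group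
        _ = a * (c * (a⁻¹ * x * a)) * c⁻¹ * a⁻¹ := by rw [h2]; group
        _ = a * (a⁻¹ * x * a) * a⁻¹ := by rw [← h1]; group
    have h4 : a * (a⁻¹ * x * a) * a⁻¹ = x := by group
    rw [h4] at h3
    exact Four.conj_eq_iff_comm.1 h3
  obtain ⟨-, -, hcount⟩ := isMaxIn_count h.max (hUV.trans h.VS)
    (isElementaryAbelian_mono h.elem hUV) (inf_le_left : C ≤ A) hCU
  -- fixed points of `A` on `U`
  have hnormU' : ∀ n ∈ N, ∀ x ∈ U', n * x * n⁻¹ ∈ U' := by
    intro n hn x hx
    obtain ⟨hn1, hn2⟩ := mem_inf.1 hn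
    have h1 : U' ≤ U'.comap (MulAut.conj n).toMonoidHom := by
      refine iSup₂_le fun r hr y hy => ?_
      rw [mem_comap]
      exact (le_iSup₂ (f := fun r (_ : r ∈ (Finset.univ.erase (q0 A W) : Finset (Idx A W))) =>
        fam A W r) r hr) (h.conj_fam hn1 hn2 r hy)
    exact h1 hx
  have hfix1 : ∀ x ∈ U', (∀ a ∈ A, a * x * a⁻¹ = x) → x = 1 := by
    intro x hx hfix
    refine h.eq_one _ hx fun q k hk => ?_
    set a : G := ((q.out : ↥A) : G) with ha
    have h1 := h.cent_sup (q := q0 A W) (s := Finset.univ.erase (q0 A W)) (by simp) hk hx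
    set b : G := (((q0 A W).out : ↥A) : G) with hb
    -- conjugate by `a b⁻¹`
    have h2 : (a * b⁻¹) * x * (a * b⁻¹)⁻¹ = x :=
      hfix _ (mul_mem q.out.2 (inv_mem (q0 A W).out.2))
    calc (a * k * a⁻¹) * x = (a * k * a⁻¹) * ((a * b⁻¹) * x * (a * b⁻¹)⁻¹) := by rw [h2]
      _ = (a * b⁻¹) * ((b * k * b⁻¹) * x) * (a * b⁻¹)⁻¹ := by group
      _ = (a * b⁻¹) * (x * (b * k * b⁻¹)) * (a * b⁻¹)⁻¹ := by rw [h1]
      _ = ((a * b⁻¹) * x * (a * b⁻¹)⁻¹) * (a * k * a⁻¹) := by group
      _ = x * (a * k * a⁻¹) := by rw [h2]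
  -- the decomposition of the elements of `U`
  have hdec : ∀ u : ↥(U ⊓ centralizer (A : Set G)), ∃ w : ↥(W ⊓ centralizer (N : Set G)),
      (w : G)⁻¹ * u ∈ U' := by
    rintro ⟨u, hu1, hu2⟩
    have hu1' : u ∈ W ⊔ U' := by rw [hWU]; exact hu1
    have hn : W ≤ normalizer (U' : Set G) := by
      refine le_trans ?_ (centralizer_le_normalizer _)
      intro x hx
      rw [mem_centralizer_iff]
      intro y hy
      exact h.commV (hU'V hy) (h.WV hx)
    rw [← SetLike.mem_coe, coe_mul_of_left_le_normalizer_right _ _ hn] at hu1'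
    obtain ⟨w, hw, y, hy, hwy⟩ := hu1'
    change w * y = u at hwy
    refine ⟨⟨w, hw, ?_⟩, ?_⟩
    · change w ∈ centralizer (N : Set G)
      rw [mem_centralizer_iff]
      intro n hnN
      obtain ⟨hn1, hn2⟩ := mem_inf.1 hnN
      have h1 := mem_centralizer_iff.1 hu2 n hn1
      have h2 : n * u * n⁻¹ = u := by rw [h1]; group
      have h3 : n * w * n⁻¹ ∈ W := Four.conj_mem hn2 hw
      have h4 : n * y * n⁻¹ ∈ U' := hnormU' n hnN y hy
      have h5 : (n * w * n⁻¹) * (n * y * n⁻¹) = w * y := by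
        calc (n * w * n⁻¹) * (n * y * n⁻¹) = n * (w * y) * n⁻¹ := by group
          _ = w * y := by rw [hwy, h2]
      have h6 : w⁻¹ * (n * w * n⁻¹) = y * (n * y * n⁻¹)⁻¹ := by
        calc w⁻¹ * (n * w * n⁻¹) = w⁻¹ * ((n * w * n⁻¹) * (n * y * n⁻¹)) * (n * y * n⁻¹)⁻¹ := by
              group
          _ = y * (n * y * n⁻¹)⁻¹ := by rw [h5]; group
      have h7 : w⁻¹ * (n * w * n⁻¹) ∈ W ⊓ U' :=
        mem_inf.2 ⟨mul_mem (inv_mem hw) h3, h6 ▸ mul_mem hy (inv_mem h4)⟩
      rw [hWU', mem_bot] at h7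
      have h8 : n * w * n⁻¹ = w := (inv_mul_eq_one.1 h7).symm
      exact Four.conj_eq_iff_comm.1 h8
    · change w⁻¹ * u ∈ U'
      rw [← hwy]
      have : w⁻¹ * (w * y) = y := by group
      rw [this]; exact hy
  choose φ hφ using hdec
  have hφinj : Function.Injective φ := by
    intro u v huv
    have h1 := hφ u
    have h2 := hφ v
    rw [huv] at h1
    have h3 : (u : G)⁻¹ * v ∈ U' := by
      have h4 := mul_mem (inv_mem h1) h2
      have h5 : (((φ v : ↥(W ⊓ centralizer (N : Set G))) : G)⁻¹ * (u : G))⁻¹ *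
          (((φ v : ↥(W ⊓ centralizer (N : Set G))) : G)⁻¹ * v) = (u : G)⁻¹ * v := by group
      rwa [h5] at h4
    have h4 : (u : G)⁻¹ * v = 1 := by
      refine hfix1 _ h3 fun a ha => ?_
      have h5 : (u : G)⁻¹ * v ∈ centralizer (A : Set G) :=
        mul_mem (inv_mem (mem_inf.1 u.2).2) (mem_inf.1 v.2).2
      exact Four.conj_eq_iff_comm.2 (mem_centralizer_iff.1 h5 a ha)
    exact Subtype.ext (inv_mul_eq_one.1 h4)
  have hfixcard : Nat.card ↥(U ⊓ centralizer (A : Set G)) ≤
      Nat.card ↥(W ⊓ centralizer (N : Set G)) := Nat.card_le_card_of_injective φ hφinj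
  -- `C ⊓ U ≤ C_U(A)`
  have hCle : C ⊓ U ≤ U ⊓ centralizer (A : Set G) := by
    rintro x ⟨⟨hx1, -⟩, hx2⟩
    refine ⟨hx2, mem_centralizer_iff.2 fun a ha => h.comm ha hx1⟩
  have hCcard : Nat.card ↥(C ⊓ U) ≤ Nat.card ↥(W ⊓ centralizer (N : Set G)) :=
    (Nat.le_of_dvd Nat.card_pos (card_dvd_of_le hCle)).trans hfixcard
  -- `|A : C| = m |N : C|`
  have hCN : C ≤ N := inf_le_inf_left A (centralizer_le_normalizer _)
  have hidx : C.relIndex A = m * C.relIndex N := by
    rw [← relIndex_mul_relIndex C N A hCN inf_le_left, hN, inf_relIndex_left, mul_comm]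
  have hCN' : C.relIndex N = (centralizer (W : Set G)).relIndex N := by
    have h1 : C = N ⊓ centralizer (W : Set G) := by
      rw [hN, inf_assoc, inf_eq_right.2 (centralizer_le_normalizer (W : Set G))]
    rw [h1, inf_relIndex_left]
  have hN2 : IsPGroup 2 N := hA2.to_le inf_le_left
  have hfour : C.relIndex N * Nat.card ↥(W ⊓ centralizer (N : Set G)) ≤ 4 := by
    rw [hCN']
    rcases Plane.relIndex_le_two h.card (inf_le_right : N ≤ normalizer (W : Set G)) hN2 with
      h1 | h1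
    · rw [h1, one_mul, ← h.card]
      exact Nat.le_of_dvd Nat.card_pos (card_dvd_of_le inf_le_left)
    · rw [h1]
      have h2 : Nat.card ↥(W ⊓ centralizer (N : Set G)) ∣ 2 ^ 2 := by
        have := card_dvd_of_le (inf_le_left : W ⊓ centralizer (N : Set G) ≤ W)
        rwa [h.card] at this
      obtain ⟨l, hl, hl'⟩ := (Nat.dvd_prime_pow Nat.prime_two).1 h2
      have h3 : l ≠ 2 := by
        rintro rfl
        have h4 : W ⊓ centralizer (N : Set G) = W :=
          Subgroup.eq_of_le_of_card_ge inf_le_left (by rw [hl', h.card]; norm_num)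
        rw [inf_eq_left] at h4
        have h5 : (centralizer (W : Set G)).relIndex N = 1 :=
          relIndex_eq_one.2 (le_centralizer_iff.1 h4)
        rw [h5] at h1
        exact absurd h1 (by norm_num)
      rw [hl']
      have h6 : l ≤ 1 := by omega
      calc 2 * 2 ^ l ≤ 2 * 2 ^ 1 := Nat.mul_le_mul_left _ (Nat.pow_le_pow_right (by norm_num) h6)
        _ = 4 := by norm_num
  -- conclusion
  have hfin : 4 ^ m ≤ m * 4 := by
    calc 4 ^ m ≤ Nat.card U := hlow
      _ ≤ C.relIndex A * Nat.card ↥(C ⊓ U) := hcount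
      _ ≤ C.relIndex A * Nat.card ↥(W ⊓ centralizer (N : Set G)) := Nat.mul_le_mul_left _ hCcard
      _ = m * (C.relIndex N * Nat.card ↥(W ⊓ centralizer (N : Set G))) := by rw [hidx]; ring
      _ ≤ m * 4 := Nat.mul_le_mul_left _ hfour
  have hm1 : m ≤ 1 := by
    by_contra hcon
    have h1 : ∀ n : ℕ, 2 ≤ n → n * 4 < 4 ^ n := by
      intro n hn
      induction n, hn using Nat.le_induction with
      | base => norm_num
      | succ n hn ih => rw [pow_succ]; omega
    have h2 := h1 m (by omega)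
    omega
  have hm0 : m ≠ 0 := index_ne_zero_of_finite
  exact relIndex_eq_one.1 (by omega)

end Orb

end Cfsg.Agent.H250.JBasic
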