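import Cfsg.Agent.H250.JMain
import Cfsg.Agent.H250.KComp
import Cfsg.Agent.H250.Orbit

/-!
# S2945: `K ∈ 𝒦₀(Tᵍ)` subnormal in `⟨K, J(T)⟩ ≤ L ∈ jOvergroups T` is a J(T)-component
-/

set_option autoImplicit false
set_option linter.style.haveILetI false
set_option linter.unusedSectionVars false

namespace Cfsg.Agent.H250.JBasic

open Subgroup Cfsg
open Cfsg.Agent.ZN
open Cfsg.Agent.PLocal.ThompsonJ

universe u

variable {G : Type u} [Group G] [Finite G] {T L K : Subgroup G}

/-- If `J(T) ≤ S ≤ L`, `T` is Sylow in `L` and `S` is a 2-group, then `J(S) = J(T)`. -/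
theorem jj_eq_of_le_sylow (hT : IsSylowTwoIn T L) {S : Subgroup G} (hS : IsPGroup 2 S)
    (hSL : S ≤ L) (hJS : jj T ≤ S) : jj S = jj T := by
  obtain ⟨T₁, hT₁, hST₁⟩ := exists_isSylowTwoIn hS hSL
  obtain ⟨l, hl, hlT⟩ := isSylowTwoIn_conj hT hT₁
  have h1 : jj T₁ = (jj T).map (MulAut.conj l).toMonoidHom := by
    rw [← hlT, jj_map _ (MulAut.conj l).injective]
  have h2 : jj T₁ = jj T := by
    refine jj_unique (hJS.trans hST₁) l⁻¹ ?_
    rw [h1, Subgroup.map_map]
    ext x
    constructor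
    · rintro ⟨y, hy, rfl⟩
      simpa [mul_assoc] using hy
    · intro hx
      exact ⟨x, hx, by simp [mul_assoc]⟩
  rw [← h2]
  exact jj_eq_of_le (h2 ▸ hJS) hST₁

/-- A subnormal `K` with the intrinsic properties of a J(T)-component: the largest elementary abelian
subgroups of a Sylow 2-subgroup of `X` normalize `W_K`. -/
theorem KC.le_normalizer_wOf {X S : Subgroup G} (h : KC K) (hKX : K ≤ X)
    (hsn : (K.subgroupOf X).IsSubnormal) (hS : IsSylowTwoIn S X) {A : Subgroup G}
    (hA : IsMaxIn S A) : A ≤ normalizer (wOf K : Set G) := by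
  have hf := X.subtype_injective
  have hK : (K.subgroupOf X).map X.subtype = K := by
    rw [subgroupOf_map_subtype, inf_eq_left.2 hKX]
  have h' : KC (K.subgroupOf X) := KC.of_map X.subtype hf (by rw [hK]; exact h)
  have hQS : o2 X ≤ S := o2_le_of_sylow hS.1 hS.2.1 (IsSylowTwoIn.not_dvd hS)
  have hAX : A ≤ X := hA.1.trans hS.1
  have hW : (wOf (K.subgroupOf X)).map X.subtype = wOf K := by
    rw [← wOf_map X.subtype hf, hK]
  have hO : Orb S A (zc (o2 X)) (wOf K) K := {
    max := hA
    VS := (zc_le _).trans hQS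
    elem := isElementaryAbelian_zc _
    AV := hAX.trans ((le_normalizer_o2 X).trans (normalizer_le_normalizer_zc _))
    WV := by
      have h1 := h'.wOf_le_zc_pCore hsn
      have h2 : (zc (pCore 2 ↥X)).map X.subtype = zc (o2 X) := (zc_map X.subtype hf _).symm
      rw [← h2, ← hW]
      exact Subgroup.map_mono h1
    card := h.cardW
    fpf := by
      intro w hw hfix
      by_contra hw1
      obtain ⟨d, hd, -, hd2⟩ := h.exists_d
      exact h.conj_ne hd hd2 hw hw1 (hfix d hd)
    cent := by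
      intro a ha haW
      set a' : ↥X := ⟨a, hAX ha⟩ with ha'
      set K₂ := (K.subgroupOf X).map (MulAut.conj a').toMonoidHom with hK₂
      have h₂ : KC K₂ := h'.map _ (MulAut.conj a').injective
      have hsn₂ : K₂.IsSubnormal := hsn.map (MulAut.conj a').surjective
      have hK₂W : (wOf K₂).map X.subtype = (wOf K).map (MulAut.conj a).toMonoidHom := by
        rw [hK₂, wOf_map _ (MulAut.conj a').injective, Subgroup.map_map, ← hW, Subgroup.map_map]
        rfl
      have hne : wOf (K.subgroupOf X) ≠ wOf K₂ := by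
        intro h1
        apply haW
        apply mem_normalizer_of_map_conj_eq
        rw [← hK₂W, ← h1, hW]
      have h1 := h'.centralizes hsn h₂ hsn₂ hne
      have h2 := (le_centralizer_map_iff X.subtype hf _ _).2 h1
      rwa [hK, hK₂W] at h2 }
  exact hO.le_normalizer hS.2.1

/-- **S2945.** -/
theorem zero_of_conj (hG : ZNHyp G) (hT : IsPGroup 2 T) (hL : L ∈ jOvergroups T) (hKL : K ≤ L)
    (hsn : (K.subgroupOf (K ⊔ jj T)).IsSubnormal) (g : G)
    (hKg : K ∈ jComponentsZero (T.map (MulAut.conj g).toMonoidHom)) : JC (jj T) K := by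
  obtain ⟨hTL, -, -⟩ := mem_jOvergroups_iff.1 hL
  have h : KC K := (jZero_iff.1 hKg).1.kc
  have hT' : IsPGroup 2 (T.map (MulAut.conj g).toMonoidHom) := hT.map _
  have hXL : K ⊔ jj T ≤ L := sup_le hKL ((jj_le T).trans hTL.1)
  obtain ⟨S, hS, hJS⟩ := exists_isSylowTwoIn (hT.to_le (jj_le T)) (le_sup_right : jj T ≤ K ⊔ jj T)
  have hjS : jj S = jj T := jj_eq_of_le_sylow hTL hS.2.1 (hS.1.trans hXL) hJS
  have hJN : jj T ≤ normalizer (wOf K : Set G) := by
    rw [← hjS]
    exact jj_le_of_forall fun A hA => h.le_normalizer_wOf le_sup_left hsn hS hA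
  have hTT : (T.map (MulAut.conj g).toMonoidHom).map (MulAut.conj g⁻¹).toMonoidHom = T := by
    rw [Subgroup.map_map]
    ext x
    constructor
    · rintro ⟨y, hy, rfl⟩
      simpa [mul_assoc] using hy
    · intro hx
      exact ⟨x, hx, by simp [mul_assoc]⟩
  have h1 := zero_conj hG hT' hKg g⁻¹ (by rw [hTT]; exact hJN)
  rwa [hTT] at h1

end Cfsg.Agent.H250.JBasic
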